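import Mathlib
import Groth.Agent.Lib.Helper6.EtLoc.SmoothDescSch

/-!
# Reduced group schemes over perfect fields are smooth
(adapted from Mathlib's `AlgebraicGeometry.smooth_of_grpObj`)
-/

open CategoryTheory AlgebraicGeometry

namespace Groth.Agent.Lib.Helper6.GrpSm

universe u

variable {K : Type u} [Field K] {G : Scheme.{u}} (f : G ⟶ Spec (.of K))
    [LocallyOfFiniteType f] [GrpObj (Over.mk f)]

set_option backward.defeqAttrib.useBackward true in
set_option backward.isDefEq.respectTransparency false in
open MonObj MonoidalCategory CartesianMonoidalCategory in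
/-- A group scheme locally of finite type over an algebraically closed field whose smooth locus is
nonempty is smooth. -/
lemma smooth_of_grpObj_of_isAlgClosed_of_nonempty [IsAlgClosed K]
    (hne : (f.smoothLocus : Set G).Nonempty) : Smooth f := by
  have := LocallyOfFiniteType.jacobsonSpace f
  rw [← Scheme.Hom.smoothLocus_eq_top_iff, ← TopologicalSpace.Opens.coe_eq_univ,
    ← not_ne_iff, ← Set.nonempty_compl]
  intro H
  obtain ⟨x, hx, hxc⟩ :=
    nonempty_inter_closedPoints H f.smoothLocus.2.isClosed_compl.isLocallyClosed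
  obtain ⟨y, hy : y ∈ f.smoothLocus, hyc⟩ := nonempty_inter_closedPoints
    hne f.smoothLocus.2.isLocallyClosed
  let x' : 𝟙_ _ ⟶ Over.mk f := Over.homMk _ ((pointEquivClosedPoint f).symm ⟨x, hxc⟩).2
  let y' : 𝟙_ _ ⟶ Over.mk f := Over.homMk _ ((pointEquivClosedPoint f).symm ⟨y, hyc⟩).2
  let α := (GrpObj.mulRight (A := Over.mk f) x').symm ≪≫
    (GrpObj.mulRight (A := Over.mk f) y')
  have hα : x' ≫ α.hom = y' := by
    dsimp only [Iso.trans_hom, Iso.symm_hom, α]
    rw [← Category.assoc, ← Iso.eq_comp_inv]
    simp [comp_lift_assoc]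
  have hα' : α.hom.left x = y := by
    simpa [x', y', pointEquivClosedPoint] using congr(($hα).left (IsLocalRing.closedPoint K))
  rw! [← hα', ← α.hom.left.mem_preimage, Scheme.Hom.preimage_smoothLocus_eq,
    show α.hom.left ≫ f = f from α.hom.w] at hy
  exact hx hy

open MonObj in
/-- A reduced group scheme locally of finite type over a perfect field is smooth. -/
lemma smooth_of_grpObj_of_perfectField [PerfectField K] [IsReduced G] : Smooth f := by
  let Ω : Type u := AlgebraicClosure K
  let g : Spec (.of Ω) ⟶ Spec (.of K) := Spec.map (CommRingCat.ofHom <| algebraMap K Ω)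
  apply MorphismProperty.of_pullback_snd_of_descendsAlong
    (Q := @Surjective ⊓ @Flat ⊓ @QuasiCompact) (g := g)
  · exact ⟨⟨inferInstance, inferInstance⟩, inferInstance⟩
  · let : GrpObj (Over.mk (Limits.pullback.snd f g)) := Over.grpObjMkPullbackSnd
    apply smooth_of_grpObj_of_isAlgClosed_of_nonempty
    have : Nonempty G := ⟨η[Over.mk f].1 (IsLocalRing.closedPoint _)⟩
    obtain ⟨y, hy⟩ := f.dense_smoothLocus_of_perfectField.nonempty
    obtain ⟨z, hz⟩ := (Limits.pullback.fst f g).surjective y
    refine ⟨z, ?_⟩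
    exact Groth.Agent.Lib.Helper6.EtLoc.mem_smoothLocus_of_isPullback f g
      (Limits.pullback.snd f g) (Limits.pullback.fst f g) (IsPullback.of_hasPullback f g) z
      (hz ▸ hy)

end Groth.Agent.Lib.Helper6.GrpSm
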